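import Groth.Agent.CliffEq.FF
import Groth.Agent.H9PB.CurveFinFF.ClassMap
import Groth.Agent.CurveVA.Canonical
import Groth.Agent.CurveBC.Main
import Groth.Agent.CurveCohLib.RegularCurve
import Groth.Agent.CurveCohLib.Stable
import Groth.Agent.CurveFF.Canonical

/-! Equality in Clifford's theorem on a curve. -/

noncomputable section

set_option autoImplicit false
set_option linter.style.haveILetI false
set_option linter.unusedSectionVars false
set_option backward.isDefEq.respectTransparency false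
set_option backward.isDefEq.respectTransparency.types false
set_option maxHeartbeats 1000000

universe u

open CategoryTheory CategoryTheory.Limits AlgebraicGeometry TopologicalSpace Opposite
open Groth.Agent.H23.PicMul
open scoped Groth.Agent.H23.PicMul

namespace Groth.Agent.CliffEq

open Groth.Agent FunFld H9PB.CurveFinFF

attribute [local instance] H9PB.CurveFinFF.ffAlg

variable (k : Type u) [Field k] [IsAlgClosed k] {X : Scheme.{u}} [X.Over (Spec (CommRingCat.of k))]
  [IsIntegral X] [IsProper (X ↘ Spec (CommRingCat.of k))] [Smooth (X ↘ Spec (CommRingCat.of k))]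
  (hdim : topologicalKrullDim X = 1)

include hdim

theorem finrank_eq_ell {M : X.Modules} {hM : PicF.IsInvertible M} {D : Divisor k X.functionField}
    (hD : HasClass k hdim M hM D) : Module.finrank k (Coh.HH X M 0) = ell D := by
  obtain ⟨U, e, he, h, hd⟩ := hD
  rw [finrank_h0_eq_ell k hdim hM he h,
    FFLib.ell_congr (H9PB.CurveFinFF.isFunctionField k X hdim (CurveCohLib.Clifford.finrank_h0_structure k)).1 hd]

theorem nonempty_iso_of_class {L M : X.Modules} {hL : PicF.IsInvertible L} {hM : PicF.IsInvertible M}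
    {D E : Divisor k X.functionField} (hD : HasClass k hdim L hL D) (hE : HasClass k hdim M hM E)
    (h : D - E ∈ prinDivs k X.functionField) : Nonempty (L ≅ M) := by
  have h0 := CurveCohLib.Clifford.finrank_h0_structure k (X := X)
  obtain ⟨N, hN, ⟨ε⟩⟩ := H23.PicInv.exists_inverse hM
  obtain ⟨G, hG⟩ := exists_hasClass k hdim hN
  have h2 := ((hE.tensor k hdim hG).iso k hdim CurveDeg.isInvertible_structureModule ε).sub_mem k hdim h0
    (hasClass_structureModule k hdim h0)
  have h3 := cl_eq_one k hdim h0 (((hD.of_sub_mem k hdim h).tensor k hdim hG).of_sub_mem k hdim h2)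
  have h4 : PicF.cl M * PicF.cl N = 1 := (cl_tensor _ _).symm.trans (cl_eq_iff.2 ⟨ε⟩)
  rw [cl_tensor] at h3
  refine cl_eq_iff.1 ?_
  rw [← mul_one (PicF.cl L), ← h4, mul_comm (PicF.cl M), ← mul_assoc, h3, one_mul]

theorem exists_class_pow {N : X.Modules} {hN : PicF.IsInvertible N} {D : Divisor k X.functionField}
    (hD : HasClass k hdim N hN D) (r : ℕ) :
    ∃ h : PicF.IsInvertible (CohB1.tensorPow N r), HasClass k hdim (CohB1.tensorPow N r) h (r • D) := by
  induction r with
  | zero =>
    exact ⟨CurveDeg.isInvertible_structureModule, by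
      rw [zero_nsmul]
      exact hasClass_structureModule k hdim (CurveCohLib.Clifford.finrank_h0_structure k)⟩
  | succ r ih =>
    obtain ⟨h, hc⟩ := ih
    exact ⟨InvX.isInvertible_tensorMod h hN, by rw [succ_nsmul]; exact hc.tensor k hdim hD⟩

/-- Equality in Clifford's theorem: a `g¹₂`, of which the module is a multiple. -/
theorem exists_g12 {L : X.Modules} (hL : PicF.IsInvertible L) (hs : 2 ≤ Module.finrank k (Coh.HH X L 0))
    (heq : 2 * (Module.finrank k (Coh.HH X L 0) : ℤ) = Curv2.deg k X L 1 + 2)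
    (hlt : Curv2.deg k X L 1 < 2 * (Curv2.genus k X : ℤ) - 2) :
    ∃ (N : X.Modules) (s : Fin 2 → LinSer.Sect X N), LinSer.IsLinSer k X N 2 1 s ∧
      Nonempty (L ≅ CohB1.tensorPow N (Module.finrank k (Coh.HH X L 0) - 1)) := by
  haveI := CurveCohLib.isNoetherian_of_proper (k := k) (X := X)
  have h0 := CurveCohLib.Clifford.finrank_h0_structure k (X := X)
  have hK := H9PB.CurveFinFF.isFunctionField k X hdim h0
  have hgen : FunFld.genus k X.functionField = Curv2.genus k X := H9PB.CurveFinFF.genus_eq k hdim h0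
  obtain ⟨D, hD⟩ := exists_hasClass k hdim hL
  obtain ⟨C, hC⟩ := FFLib.exists_canonical hK
  have hDd : D.deg = _ := hD.deg k hdim h0
  obtain ⟨r, hr⟩ : ∃ r, Module.finrank k (Coh.HH X L 0) = r + 1 := ⟨_, (Nat.sub_add_cancel (by omega)).symm⟩
  have hDl : ell D = r + 1 := by rw [← finrank_eq_ell k hdim hD, hr]
  obtain ⟨N, hNd, hNl⟩ := exists_deg_two hK hC r D (by omega) hDl (by omega) (by omega)
  obtain ⟨M, hM, hMN⟩ := exists_module k hdim h0 N
  obtain ⟨s, hs'⟩ := CurveVA.exists_linIndep (n := 2) k (L := M) (CurveDeg.isCoh_of_isInvertible hM)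
    (by rw [finrank_eq_ell k hdim hMN, hNl])
  obtain ⟨hP, hPc⟩ := exists_class_pow k hdim hMN r
  refine ⟨M, s, ⟨hM, ?_, hs'⟩, ?_⟩
  · rw [← hMN.deg k hdim h0, hNd]; norm_num
  · rw [hr, Nat.add_sub_cancel]
    exact nonempty_iso_of_class k hdim hD hPc (sub_nsmul_mem hK hC (by omega) hDl (by omega) hNd hNl)

/-- A proper submodule of the differentials with two sections: Clifford applies. -/
theorem clifford_sub (hg : 1 ≤ Curv2.genus k X) {M : X.Modules} (hM : PicF.IsInvertible M)
    (ι : M ⟶ Omega.sheaf (X ↘ Spec (CommRingCat.of k))) [Mono ι] (hι : ¬ IsIso ι)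
    (h2 : 2 ≤ Module.finrank k (Coh.HH X M 0)) :
    2 * (Module.finrank k (Coh.HH X M 0) : ℤ) ≤ Curv2.deg k X M 1 + 2 ∧
      Curv2.deg k X M 1 < 2 * (Curv2.genus k X : ℤ) - 2 := by
  haveI := CurveCohLib.isNoetherian_of_proper (k := k) (X := X)
  have h0 := CurveCohLib.Clifford.finrank_h0_structure k (X := X)
  have hΩ := CurveBC.isInvertible_omega k X hdim h0
  obtain ⟨hΩ0, hΩd⟩ := CurveBC.canonical_invariants k X hdim h0
  obtain ⟨hle, hiff⟩ := CurveCohLib.deg_le_of_mono k hdim ι (InvEnd.isFinLocFreeOfRank_one hM)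
    (InvEnd.isFinLocFreeOfRank_one hΩ)
  have hlt : Curv2.deg k X M 1 < 2 * (Curv2.genus k X : ℤ) - 2 := by
    rw [← hΩd]
    exact lt_of_le_of_ne hle fun h => hι (hiff.1 h)
  refine ⟨?_, hlt⟩
  haveI := CurveCohLib.finite_HH (k := k) (CurveDeg.isCoh_of_isInvertible hM) 1
  haveI := CurveCohLib.finite_HH (k := k) (CurveDeg.isCoh_of_isInvertible hM) 0
  have hrk : CurveBundle.rk (cokernel ι) = 0 := by
    have := CurveSlope.rk_add_coh k _ _ _ (CurveSlope.shortExact_cokernel_of_mono ι) (CurveDeg.isCoh_of_isInvertible hΩ)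
    rw [CurveBundle.rk_eq (InvEnd.isFinLocFreeOfRank_one hΩ), CurveBundle.rk_eq (InvEnd.isFinLocFreeOfRank_one hM)] at this
    omega
  have hsurj := CurveCohLib.Nonspecial.surjective_mapLin k hdim (CurveDeg.isCoh_of_isInvertible hM)
    (CurveDeg.isCoh_of_isInvertible hΩ) ι hrk
  have h1Ω := CurveFF.finrank_h1_Ωm k hdim (X := X)
  haveI : Nontrivial (Coh.HH X (Omega.sheaf (X ↘ Spec (CommRingCat.of k))) 1) :=
    Module.nontrivial_of_finrank_pos (R := k) (by rw [h1Ω]; omega)
  have h1 := CurveCohLib.Clifford.h0_add_h1_le k hdim hM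
    (Module.nontrivial_of_finrank_pos (R := k) (by omega)) hsurj.nontrivial
  have hdeg := CurveCohLib.Clifford.deg_eq k hdim hM
  omega

end Groth.Agent.CliffEq
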