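import Groth.Agent.FFLib.RR
import Groth.Agent.FFLib.Numer
import Groth.Agent.FFLib.Rational
import Groth.Agent.FFLib.SV.Aut
import Groth.Agent.CurveCohLib.HopfBilinear

/-! Equality in Clifford's theorem, in a function field with algebraically closed constants. -/

set_option autoImplicit false
set_option linter.style.haveILetI false
set_option linter.unusedSectionVars false

namespace Groth.Agent.CliffEq

open FunFld Groth.Agent.FFLib

variable {k K : Type*} [Field k] [Field K] [Algebra k K] [IsAlgClosed k] (hK : IsFunctionField k K)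

include hK

/-- The bilinear bound on Riemann-Roch spaces. -/
theorem ell_add_le {A B : Divisor k K} (hA : 0 < ell A) (hB : 0 < ell B) :
    ell A + ell B ≤ ell (A + B) + 1 := by
  haveI := L_finite hK.1 A
  haveI := L_finite hK.1 B
  haveI := L_finite hK.1 (A + B)
  haveI : Nontrivial (L A) := Module.nontrivial_of_finrank_pos (R := k) hA
  haveI : Nontrivial (L B) := Module.nontrivial_of_finrank_pos (R := k) hB
  let μ : L A →ₗ[k] L B →ₗ[k] L (A + B) :=
    LinearMap.mk₂ k (fun x y => ⟨(x : K) * (y : K), fun P => by
      rw [Finsupp.add_apply, WithZero.exp_add, map_mul]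
      exact mul_le_mul' (x.2 P) (y.2 P)⟩)
      (fun x x' y => Subtype.ext (by simp [add_mul]))
      (fun c x y => Subtype.ext (by simp))
      (fun x y y' => Subtype.ext (by simp [mul_add]))
      (fun c x y => Subtype.ext (by simp))
  refine CurveCohLib.HopfBilinear.finrank_add_le μ fun x y h => ?_
  have h' : (x : K) * (y : K) = 0 := congrArg Subtype.val h
  exact (mul_eq_zero.1 h').imp (fun h => Subtype.ext h) (fun h => Subtype.ext h)

theorem exists_effective {D : Divisor k K} (h : 0 < ell D) : ∃ E, 0 ≤ E ∧ D - E ∈ prinDivs k K := by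
  obtain ⟨z, hz, -, hE⟩ := exists_le_add_div hK.1 h
  refine ⟨_, hE, ?_⟩
  rw [sub_add_cancel_left]
  exact neg_mem ((mem_prinDivs hK.1).2 ⟨z, hz, rfl⟩)

theorem deg_congr {D E : Divisor k K} (h : D - E ∈ prinDivs k K) : D.deg = E.deg := by
  obtain ⟨z, -, hz⟩ := (mem_prinDivs hK.1).1 h
  have := congrArg Divisor.deg hz
  rw [deg_div hK.1, Divisor.deg_sub] at this
  omega

theorem eq_zero_of_deg {E : Divisor k K} (h : 0 ≤ E) (hd : E.deg ≤ 0) : E = 0 := by
  by_contra hne
  obtain ⟨P, hP⟩ : ∃ P, E P ≠ 0 := by
    by_contra! hall
    exact hne (Finsupp.ext hall)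
  have hle : Finsupp.single P 1 ≤ E := fun Q => by
    classical
    rw [Finsupp.single_apply]
    split_ifs with hQ
    · subst hQ; have := h P; rw [Finsupp.zero_apply] at this; omega
    · exact h Q
  have := Divisor.deg_mono hle
  rw [Divisor.deg_single, deg_eq_one hK.1 P] at this
  push_cast at this
  omega

theorem prin_of_deg_zero {D : Divisor k K} (hd : D.deg = 0) (h : 0 < ell D) : D ∈ prinDivs k K := by
  obtain ⟨E, hE, hDE⟩ := exists_effective hK h
  have := deg_congr hK hDE
  rwa [eq_zero_of_deg hK hE (by omega), sub_zero] at hDE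

/-- Degree `2g - 2` and `ℓ ≥ g` characterise the canonical class. -/
theorem sub_canonical_mem {C T : Divisor k K} (hC : IsCanonical k K C)
    (hd : T.deg = 2 * (genus k K : ℤ) - 2) (hl : genus k K ≤ ell T) : T - C ∈ prinDivs k K := by
  have h := riemann_roch hK hC T
  have h' := neg_mem (prin_of_deg_zero hK (D := C - T)
    (by rw [Divisor.deg_sub, deg_canonical hK hC, hd, sub_self]) (by omega))
  rwa [neg_sub] at h'

theorem ell_nsmul_add {D N : Divisor k K} (hD : 0 < ell D) (hN : ell N = 2) (j : ℕ) :
    ell D + j ≤ ell (D + j • N) := by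
  induction j with
  | zero => simp
  | succ j ih =>
    have h := ell_add_le hK (A := D + j • N) (B := N) (by omega) (by omega)
    rw [add_assoc, ← succ_nsmul] at h
    omega

/-- Equality in Clifford's theorem gives a class of degree two with two sections. -/
theorem exists_deg_two {C : Divisor k K} (hC : IsCanonical k K C) (r : ℕ) :
    ∀ D : Divisor k K, 1 ≤ r → ell D = r + 1 → D.deg = 2 * r → r + 2 ≤ genus k K →
      ∃ N : Divisor k K, N.deg = 2 ∧ ell N = 2 := by
  classical
  induction r using Nat.strong_induction_on with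
  | _ r ih =>
    intro D hr hl hd hg
    rcases hr.eq_or_lt with rfl | hr2
    · exact ⟨D, by rw [hd]; norm_num, hl⟩
    have hRR := riemann_roch hK hC D
    obtain ⟨E, hE, hCE⟩ := exists_effective hK (D := C - D) (by omega)
    have hlE : ell E + r = genus k K := by
      have := ell_congr hK.1 hCE
      omega
    have hdE : E.deg = 2 * (genus k K : ℤ) - 2 - 2 * r := by
      rw [← deg_congr hK hCE, Divisor.deg_sub, deg_canonical hK hC, hd]
    obtain ⟨P, hP⟩ : ∃ P, E P ≠ 0 := by
      by_contra! hall
      rw [Finsupp.ext (g := (0 : Divisor k K)) hall, Divisor.deg_zero] at hdE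
      omega
    obtain ⟨Q, hQ⟩ : ∃ Q, Q ∉ E.support := by
      haveI := FFLib.infinite_places hK
      exact Infinite.exists_notMem_finset _
    rw [Finsupp.mem_support_iff, not_not] at hQ
    let F : Divisor k K := Finsupp.single P 1 + Finsupp.single Q 1
    have hF : F.deg = 2 := by
      simp only [F, Divisor.deg_add, Divisor.deg_single, deg_eq_one hK.1]
      norm_num
    have hpos : 0 < ell (D - F) := by
      have := (ell_le_of_le hK.1 (show D - F ≤ D from sub_le_self _ (by
        intro R; simp only [F, Finsupp.add_apply, Finsupp.zero_apply, Finsupp.single_apply]; split_ifs <;> omega))).2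
      rw [Divisor.deg_sub, hF] at this
      omega
    obtain ⟨E', hE', hDE'⟩ := exists_effective hK hpos
    let D' : Divisor k K := E' + F
    have hDD : D - D' ∈ prinDivs k K := by
      rwa [show D - D' = D - F - E' by show D - (E' + F) = _; abel]
    have hD'l : ell D' = r + 1 := by rw [← ell_congr hK.1 hDD, hl]
    have hD'd : D'.deg = 2 * r := by rw [← deg_congr hK hDD, hd]
    have hD'0 : ∀ R, (if P = R then 1 else 0) + (if Q = R then 1 else 0) ≤ D' R := fun R => by
      have := hE' R
      simp only [D', F, Finsupp.add_apply, Finsupp.single_apply, Finsupp.zero_apply] at this ⊢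
      omega
    let A : Divisor k K := D' ⊓ E
    let S : Divisor k K := D' ⊔ E
    have hAS : A + S = D' + E := Finsupp.ext fun R => by
      simp only [A, S, Finsupp.add_apply, Finsupp.inf_apply, Finsupp.sup_apply]
      exact min_add_max _ _
    have hL1 : L D' ⊓ L E ≤ L A := fun x hx R => by
      rw [show A R = min (D' R) (E R) from Finsupp.inf_apply _ _ R]
      rcases min_choice (D' R) (E R) with h | h <;> rw [h]
      · exact hx.1 R
      · exact hx.2 R
    have hL2 : L D' ⊔ L E ≤ L S := sup_le
      (fun x hx R => (hx R).trans (WithZero.exp_le_exp.2 ((le_sup_left : D' ≤ S) R)))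
      (fun x hx R => (hx R).trans (WithZero.exp_le_exp.2 ((le_sup_right : E ≤ S) R)))
    have hge : r + 1 + ell E ≤ ell A + ell S := by
      haveI := L_finite hK.1 D'
      haveI := L_finite hK.1 E
      haveI := L_finite hK.1 A
      haveI := L_finite hK.1 S
      have h1 := Submodule.finrank_sup_add_finrank_inf_eq (L D') (L E)
      have h2 := Submodule.finrank_mono hL1
      have h3 := Submodule.finrank_mono hL2
      rw [← hD'l]
      simp only [ell]
      omega
    have hA0 : 0 ≤ A := le_inf (fun R => by
      have := hD'0 R; rw [Finsupp.zero_apply]; split_ifs at this <;> omega) hE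
    have hS0 : 0 ≤ S := hE.trans le_sup_right
    have hCS : (C - A) - S ∈ prinDivs k K := by
      have := add_mem hCE hDD
      rwa [sub_sub, hAS, show C - (D' + E) = (C - D - E) + (D - D') by abel]
    have h0le : ∀ {G : Divisor k K}, 0 ≤ G → 0 < ell G := fun {G} h => by
      have := (ell_le_of_le hK.1 h).1
      rw [ell_zero hK] at this
      omega
    have hle : ell A + ell S ≤ genus k K + 1 := by
      have h := ell_add_le hK (h0le hA0) (h0le hS0)
      rw [ell_congr hK.1 (D := A + S) (E := C) (by
        have := neg_mem hCS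
        rwa [show -(C - A - S) = A + S - C by abel] at this), ell_canonical hK hC] at h
      exact h
    have hRA := riemann_roch hK hC A
    rw [ell_congr hK.1 hCS] at hRA
    have hPA : Finsupp.single P 1 ≤ A := fun R => by
      have h1 := hD'0 R
      have h2 := hE R
      rw [show A R = min (D' R) (E R) from Finsupp.inf_apply _ _ R, Finsupp.single_apply]
      rw [Finsupp.zero_apply] at h2
      split_ifs at h1 ⊢ with h3 h4 <;> subst_vars <;> omega
    have hQA : A + Finsupp.single Q 1 ≤ D' := fun R => by
      have h1 := hD'0 R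
      rw [Finsupp.add_apply, show A R = min (D' R) (E R) from Finsupp.inf_apply _ _ R, Finsupp.single_apply]
      split_ifs at h1 ⊢ with h3 h4 <;> subst_vars <;> omega
    have hA1 := Divisor.deg_mono hPA
    have hA2 := Divisor.deg_mono hQA
    rw [Divisor.deg_add, Divisor.deg_single, deg_eq_one hK.1, hD'd] at hA2
    rw [Divisor.deg_single, deg_eq_one hK.1] at hA1
    push_cast at hA1 hA2
    exact ih (ell A - 1) (by omega) A (by omega) (by omega) (by omega) (by omega)

/-- A special class attaining Clifford's bound is a multiple of the class of degree two. -/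
theorem sub_nsmul_mem {C D N : Divisor k K} (hC : IsCanonical k K C) {r : ℕ} (hr : r + 1 ≤ genus k K)
    (hl : ell D = r + 1) (hd : D.deg = 2 * r) (hNd : N.deg = 2) (hNl : ell N = 2) :
    D - r • N ∈ prinDivs k K := by
  obtain ⟨j, hj⟩ := Nat.exists_eq_add_of_le hr
  have hdeg : ∀ i : ℕ, (i • N).deg = 2 * i := fun i => by
    induction i with
    | zero => simp
    | succ i ih => rw [succ_nsmul, Divisor.deg_add, ih, hNd]; push_cast; ring
  have h1 := ell_nsmul_add hK (D := D) (by omega) hNl j
  have h0 := ell_nsmul_add hK (D := (0 : Divisor k K)) (by rw [ell_zero hK]; omega) hNl (r + j)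
  rw [zero_add, ell_zero hK] at h0
  have a := sub_canonical_mem hK hC (T := D + j • N) (by rw [Divisor.deg_add, hdeg, hd]; omega) (by omega)
  have b := sub_canonical_mem hK hC (T := (r + j) • N) (by rw [hdeg]; omega) (by omega)
  have := sub_mem a b
  rwa [show D + j • N - C - ((r + j) • N - C) = D - r • N by rw [add_nsmul]; abel] at this

end Groth.Agent.CliffEq
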